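import Cfsg.Agent.BH.Defs
import Cfsg.Agent.TO.CovD
import Cfsg.Agent.TID.Red.R13
import Cfsg.Agent.H648.FirstMain
import Cfsg.Agent.Lib.Cores
import Cfsg.Agent.S0912
import Cfsg.Agent.S0919

/-!
# BH, boxes RT and REG: roots and local blocks (helper24)

* `mem_In_iff`, `mem_In_iff_stab` : the inertia group of a root;
* `key0` : a root normalised by a defect group;
* `key1` : the block of the inertia group of a root which induces `B`;
* `boxRT`.
-/

set_option autoImplicit false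
set_option linter.style.haveILetI false
set_option linter.unusedSectionVars false
set_option maxHeartbeats 400000

namespace Cfsg.Agent.BH.Reg

open Cfsg Subgroup Cfsg.Agent Cfsg.Agent.Blocks Cfsg.Agent.Characters.Core
open Cfsg.Agent.TID.Red Cfsg.Agent.KM.BK Cfsg.Agent.TO Cfsg.Agent.H592.Transport
open Cfsg.Agent.H591.Reynolds (IsStab)

variable {p : ℕ} [Fact p.Prime] {M : Ideal AlgInt}

section general

variable {X : Type*} [Group X] [Finite X]

/-- central characters vanish outside of the centralizer of a normal `p`-subgroup -/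
theorem omega_off (hM : IsPModular p M) {c : Set (IrrCharacter X)} (hc : IsPBlock M c) {U : Subgroup X}
    (hn : U.Normal) (hU : IsPGroup p U) {ψ : IrrCharacter X} (hψ : ψ ∈ c) {h : X} (hh : h ∉ Ce U) :
    MemLocalIdeal M (centralChar (ψ : X → ℂ) h) := by
  by_contra h1
  obtain ⟨P, hP⟩ := H592.Defect.exists_defectGroup p hM hc
  obtain ⟨x, h2, h3, -⟩ := S0929.result p M hM c hc P hP h ⟨ψ, hψ, h1⟩
  have h4 : x ∈ Ce U := centralizer_le ((Lib.Cores.le_pCore hn hU).trans (S0912.result p M hM c hc P hP)) h3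
  obtain ⟨t, rfl⟩ := isConj_iff.1 h2
  exact hh ((Cov.conj_mem_iff (Ce U) t h).1 h4)

theorem icc_mem [M.IsPrime] {Y : Type*} [Group Y] (ι : X →* Y) {η : X → ℂ} (hη : IsClassFunction X η) (g : Y)
    (h : ∀ y, IsConj g (ι y) → MemLocalIdeal M (centralChar η y)) : MemLocalIdeal M (icc ι η g) := by
  have h0 : ∀ (Z : Type _) [Group Z] (j : X →* Z) (z : Z), icc j (fun _ => 0) z = 0 := fun Z _ j z => by
    simp [icc]
  have h1 := icc_congr (M := M) (MonoidHom.id X) ι (ι := ι) (fun _ => rfl) (fun _ => 0) hη g fun y hy => by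
    rw [h0]
    exact Local.memLocalIdeal_sub_comm (by rw [sub_zero]; exact h y hy)
  rw [show icc ι (fun _ => 0) g = 0 by simp [icc]] at h1
  have h2 := Local.memLocalIdeal_sub_comm h1
  rwa [sub_zero] at h2

/-- **Covering in a square**, when the central characters vanish outside of `L` -/
theorem cov_square' (hM : IsPModular p M) {L H K : Type*} [Group L] [Group H] [Group K]
    [Finite L] [Finite H] [Finite K] {lam : L →* H} {mu : L →* K} {ι : H →* X} {κ : K →* X}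
    (hsq : ∀ l, ι (lam l) = κ (mu l)) (hlam : Function.Injective lam) (hlamn : lam.range.Normal)
    (hκ : Function.Injective κ) (hκn : κ.range.Normal)
    {e : Set (IrrCharacter L)} {d : Set (IrrCharacter K)} (hed : IndH M mu e d)
    {c : Set (IrrCharacter H)} (hce : CovH lam c e)
    (hint : ∀ h, ι h ∈ κ.range → h ∉ lam.range → ∀ ψ ∈ c, MemLocalIdeal M (centralChar (ψ : H → ℂ) h))
    {B : Set (IrrCharacter X)} (hcB : IndH M ι c B) : CovH κ B d := by
  have := Local.isPrime_of_isPModular hM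
  rw [passmanH hM hκ hκn hcB.2.1 hed.2.1]
  intro χ hχ θ hθ k
  obtain ⟨ψ, hψ⟩ := Basic.isPBlock_nonempty hcB.1
  obtain ⟨ξ, hξ⟩ := Basic.isPBlock_nonempty hed.1
  have h1 := hcB.2.2 ψ hψ χ hχ (κ k)
  have h2 := icc_congr (M := M) lam ι (ι := ι.comp lam) (fun _ => rfl) (ξ : L → ℂ)
    (isIrr_isClassFunction ψ.2) (κ k) (fun y hy => by
      obtain ⟨x, hx⟩ := isConj_iff.1 hy
      by_cases h0 : y ∈ lam.range
      · obtain ⟨l, rfl⟩ := h0
        exact Local.memLocalIdeal_sub_comm ((passmanH hM hlam hlamn hcB.1 hed.1).1 hce ψ hψ ξ hξ l)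
      · have h3 : {l : L | IsConj y (lam l)} = ∅ := Set.eq_empty_of_forall_notMem fun l hl => by
          obtain ⟨t, ht⟩ := isConj_iff.1 hl
          exact h0 ((Cov.conj_mem_iff lam.range t y).1 (ht ▸ ⟨l, rfl⟩))
        rw [icc, h3, finsum_mem_empty]
        exact Local.memLocalIdeal_sub_comm (by
          rw [sub_zero]
          exact hint y (hx ▸ hκn.conj_mem _ ⟨k, rfl⟩ x) h0 ψ hψ))
  have h3 := icc_congr (M := M) mu κ (ι := ι.comp lam) hsq (ξ : L → ℂ)
    (isIrr_isClassFunction θ.2) (κ k) (fun y _ => hed.2.2 ξ hξ θ hθ y)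
  exact Local.memLocalIdeal_sub_trans (Local.memLocalIdeal_sub_comm h1)
    (Local.memLocalIdeal_sub_trans (Local.memLocalIdeal_sub_comm h2) h3)

omit [Finite X] in
/-- conjugation on the source of an embedding with normal image -/
theorem exists_cj {L : Type*} [Group L] {ι : L →* X} (hι : Function.Injective ι) (hn : ι.range.Normal) (x : X) :
    ∃ c : L ≃* L, ∀ k, ι (c k) = x * ι k * x⁻¹ :=
  ⟨(MonoidHom.ofInjective hι).trans ((MulAut.conjNormal x).trans (MonoidHom.ofInjective hι).symm), fun _ =>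
    MonoidHom.apply_ofInjective_symm hι _⟩

/-- S4671 along an embedding -/
theorem exists_stable (hM : IsPModular p M) {L : Type*} [Group L] [Finite L] {ι : L →* X}
    (hι : Function.Injective ι) (hn : ι.range.Normal) {c : Set (IrrCharacter X)} (hc : IsPBlock M c)
    {P : Subgroup X} (hP : IsDefectGroup p M c P) :
    ∃ β : Set (IrrCharacter L), IsPBlock M β ∧ CovH ι c β ∧ ∀ x ∈ P, StabH ι β x := by
  have := Local.isPrime_of_isPModular hM
  letI := Fintype.ofFinite X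
  letI := Fintype.ofFinite ι.range
  obtain ⟨β, h1, h2, h3, -⟩ := S4671.result p M hM ι.range c hc P hP
  refine ⟨trSet (MonoidHom.ofInjective hι) β, isPBlock_trSet _ h1,
    (covH_src_iff (MonoidHom.ofInjective hι) (ι := ι.range.subtype) fun _ => rfl).2 (covH_iff.2 h3), fun x hx => ?_⟩
  rw [stabH_src (MonoidHom.ofInjective hι) (ι := ι.range.subtype) fun _ => rfl]
  intro θ hθ θ' h4
  obtain ⟨χ, h5, h6⟩ := (h2 x⁻¹ (inv_mem hx)).2 θ hθ
  have h7 : θ' = χ := Subtype.ext (funext fun k => by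
    rw [h4 k ⟨_, hn.conj_mem _ k.2 x⟩ rfl]
    refine (h6 _ k ?_).symm
    show (k : X) = x⁻¹ * (x * k * x⁻¹) * x⁻¹⁻¹
    group)
  exact h7 ▸ h5

/-- covering does not change under conjugation -/
theorem covH_cj {L : Type*} [Group L] [Finite L] {ι : L →* X} {x : X} {c : L ≃* L}
    (hc : ∀ k, ι (c k) = x * ι k * x⁻¹) {B : Set (IrrCharacter X)} {β : Set (IrrCharacter L)}
    (h : CovH ι B (trSet c β)) : CovH ι B β := by
  rw [← covH_src_iff c (ι' := ι.comp c.toMonoidHom) fun _ => rfl]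
  obtain ⟨χ, h1, ξ, h2, h3⟩ := h
  refine ⟨χ, h1, ξ, h2, Ov.congr (fun k => ?_) h3⟩
  show (χ : X → ℂ) (ι (c k)) = _
  rw [hc, Basic.irr_conj χ.2]

/-- a canonical character for a given root -/
theorem can_of_ind (hM : IsPModular p M) {b : Set (IrrCharacter X)} {D : Subgroup X} (hD : IsDefectGroup p M b D)
    (hab : D ≤ Ce D) {e : Set (IrrCharacter (Ce D))} (hi : IsInducedBlock M (Ce D) e b) :
    ∃ θ : X → ℂ, Can p M b D θ ∧ Can.root M D θ = e := by
  have := hM.2.1.isPrime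
  have he := (H649.isBrauerPairOf_iff_isInducedBlock hM hi.2.1 (H592.Defect.isPGroup_of_isDefectGroup hD) hi.1).2 hi
  have h1 := Cn.root_defect hM (H644.isMaximalBrauerPair_of_isDefectGroup hM he hD) hab
  obtain ⟨ξ, ⟨h2, h3⟩, -⟩ :=
    (S0968.result p M hM _ he.1.1.comap_subtype (Cn.sup_cent_eq_top hab) _ he.1.2 h1).1
  have h4 : ∀ c : Ce D, extendByZero (Ce D) (ξ : Ce D → ℂ) c = (ξ : Ce D → ℂ) c := fun c =>
    Subtype.val_injective.extend_apply _ _ c
  refine ⟨extendByZero (Ce D) ξ, Can.of_tst hM he hD hab ⟨ξ, h2, h4⟩ (fun d hd => ?_) fun g hg => ?_⟩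
  · exact (h4 ⟨d, hab hd⟩).trans ((h3 ⟨d, hab hd⟩ hd).trans (h4 1).symm)
  · exact Function.extend_apply' _ _ _ fun ⟨c, hc⟩ => hg (hc ▸ c.2)

variable {N : Subgroup X} [hN : N.Normal] {b : Set (IrrCharacter N)} {B : Set (IrrCharacter X)}

/-- a block which covers an invariant block -/
theorem cov_eq (hM : IsPModular p M) (hB : IsPBlock M B) (hb : IsPBlock M b) (hst : IsStab b ⊤)
    (h : CovH N.subtype B b) : cov B N = b := by
  letI := Fintype.ofFinite X
  letI := Fintype.ofFinite N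
  obtain ⟨χ, hχ, θ, hθ, h1⟩ := h
  ext ψ
  constructor
  · rintro ⟨χ', hχ', h2⟩
    obtain ⟨g, θ', hθ', h3⟩ := S0964.result p M hM N B hB _ hb χ hχ θ hθ ((ov_subtype_iff N _ _).1 h1) χ' hχ' ψ
      ((ov_subtype_iff N _ _).1 h2)
    exact (hst g).1 (mem_top g) θ' hθ' ψ h3
  · intro hψ
    obtain ⟨χ', hχ', h2⟩ := S4432.result p M hM N B hB _ hb ⟨χ, hχ, θ, hθ, (ov_subtype_iff N _ _).1 h1⟩ ψ hψ
    exact ⟨χ', hχ', (ov_subtype_iff N _ _).2 h2⟩

omit [Finite X] in
theorem conj_mem_stab (hst : IsStab b ⊤) (g : X) : MulAut.conjNormal g ∈ Stab b := by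
  have key : ∀ (x : X) (f : N → ℂ), f ∈ Fn b → f ∘ MulAut.conjNormal x ∈ Fn b := by
    rintro x _ ⟨χ, hχ, rfl⟩
    exact ⟨tr (MulAut.conjNormal x) χ, (hst x).1 (mem_top x) χ hχ _ fun _ => rfl, rfl⟩
  refine fun f => ⟨fun h => ?_, key g f⟩
  have h1 := key g⁻¹ _ h
  rwa [show (f ∘ MulAut.conjNormal g) ∘ (MulAut.conjNormal g⁻¹ : MulAut N) = f from funext fun n => by simp] at h1

end general

section root

variable {G : Type} [Group G] [Finite G] {N : Subgroup G} [hN : N.Normal] {b : Set (IrrCharacter N)}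
  {B : Set (IrrCharacter G)} {D Q : Subgroup G} {θ θ' : G → ℂ}

/-- the root of the block `b` -/
abbrev rt (M : Ideal AlgInt) (N Q : Subgroup G) (θ : G → ℂ) : Set (IrrCharacter (Ce (Q.subgroupOf N))) :=
  Can.root M (Q.subgroupOf N) fun n : N => θ n

/-- `C_N(Q)` inside a subgroup `T` -/
def lam (N Q T : Subgroup G) (h : ∀ c : Ce (Q.subgroupOf N), ((c : N) : G) ∈ T) : Ce (Q.subgroupOf N) →* T :=
  (N.subtype.comp (Ce (Q.subgroupOf N)).subtype).codRestrict T h

omit [Finite G] hN in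
theorem lam_coe {T : Subgroup G} (h : ∀ c : Ce (Q.subgroupOf N), ((c : N) : G) ∈ T) (c : Ce (Q.subgroupOf N)) :
    (lam N Q T h c : G) = (c : N) := rfl

omit [Finite G] hN in
theorem lam_inj {T : Subgroup G} (h : ∀ c : Ce (Q.subgroupOf N), ((c : N) : G) ∈ T) :
    Function.Injective (lam N Q T h) := fun _ _ e =>
  Subtype.ext (Subtype.ext (congrArg (fun t : T => (t : G)) e))

omit [Finite G] hN in
theorem mem_lam (hQ : Q ≤ N) {T : Subgroup G} (h : ∀ c : Ce (Q.subgroupOf N), ((c : N) : G) ∈ T) (t : T) :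
    t ∈ (lam N Q T h).range ↔ (t : G) ∈ N ∧ (t : G) ∈ Ce Q := by
  constructor
  · rintro ⟨c, rfl⟩
    exact ⟨c.1.2, (Cov.mem_Ce_sub hQ).1 c.2⟩
  · rintro ⟨h1, h2⟩
    exact ⟨⟨⟨t, h1⟩, (Cov.mem_Ce_sub hQ).2 h2⟩, rfl⟩

omit [Finite G] in
theorem lam_normal (hQ : Q ≤ N) {T : Subgroup G} (h : ∀ c : Ce (Q.subgroupOf N), ((c : N) : G) ∈ T)
    (hT : T ≤ normalizer (Q : Set G)) : (lam N Q T h).range.Normal :=
  ⟨fun a ha g => (mem_lam hQ h _).2 ⟨hN.conj_mem _ ((mem_lam hQ h a).1 ha).1 g,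
    (Cov.conj_mem_Ce (hT g.2)).2 ((mem_lam hQ h a).1 ha).2⟩⟩

omit [Finite G] hN in
theorem mem_norm (hQ : Q ≤ N) (c : Ce (Q.subgroupOf N)) : ((c : N) : G) ∈ normalizer (Q : Set G) :=
  centralizer_le_normalizer _ ((Cov.mem_Ce_sub hQ).1 c.2)

omit [Finite G] in
/-- the inertia group in terms of the action on `N` -/
theorem mem_In_iff (hQ : Q ≤ N) (h0 : ∀ g, g ∉ N → θ g = 0) (g : G) :
    g ∈ In Q θ ↔ MulAut.conjNormal g ∈ LA (Q.subgroupOf N) fun n : N => θ n := by
  rw [Cov.mem_In, Cov.mem_LA]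
  refine ⟨fun h => ⟨fun x => h.1 x, fun x => h.2 x⟩, fun h => ⟨fun x => ?_, fun x => ?_⟩⟩
  · by_cases hx : x ∈ N
    · exact h.1 ⟨x, hx⟩
    · exact ⟨fun h1 => absurd ((Cov.conj_mem_iff N g x).1 (hQ h1)) hx, fun h1 => absurd (hQ h1) hx⟩
  · by_cases hx : x ∈ N
    · exact h.2 ⟨x, hx⟩
    · rw [h0 x hx, h0 _ fun h1 => hx ((Cov.conj_mem_iff N g x).1 h1)]

omit [Finite G] in
theorem mem_In_sub (hQ : Q ≤ N) (h0 : ∀ g, g ∉ N → θ g = 0) (n : N) :
    (n : G) ∈ In Q θ ↔ n ∈ In (Q.subgroupOf N) fun n : N => θ n := mem_In_iff hQ h0 n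

theorem mem_In_ce (h : Root p M N b Q θ) (c : Ce (Q.subgroupOf N)) : ((c : N) : G) ∈ In Q θ :=
  (mem_In_sub h.le h.zero _).2 (Cov.ce_le_In h.can c.2)

theorem ce_le_In (h : Root p M N b Q θ) : N ⊓ Ce Q ≤ In Q θ := fun x hx =>
  mem_In_ce h ⟨⟨x, hx.1⟩, (Cov.mem_Ce_sub h.le).2 hx.2⟩

theorem le_In (h : Root p M N b Q θ) : Q ≤ In Q θ := fun _ hx =>
  ce_le_In h ⟨h.le hx, Cov.ab_D h.le h.can hx⟩

/-- the inertia group is the stabiliser of the root -/
theorem mem_In_iff_stab (h : Root p M N b Q θ) (x : normalizer (Q : Set G)) :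
    (x : G) ∈ In Q θ ↔ StabH (lam N Q _ (mem_norm h.le)) (rt M N Q θ) x := by
  have := h.can.prime
  obtain ⟨c, hc⟩ := exists_cj (lam_inj (mem_norm h.le)) (lam_normal h.le (mem_norm h.le) le_rfl) x
  have hc' : ∀ k, (((c k : Ce (Q.subgroupOf N)) : N) : G) = x * ((k : N) : G) * (x : G)⁻¹ := fun k =>
    congrArg Subtype.val (hc k)
  have h1 : ∀ k, (tr c h.can.chr : Ce (Q.subgroupOf N) → ℂ) k = θ (x * ((k : N) : G) * (x : G)⁻¹) := fun k => by
    rw [← hc']
    rfl
  rw [stabH_iff_trSet (lam_inj _) c hc h.can.he]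
  constructor
  · intro hx
    have h2 : tr c h.can.chr = h.can.chr := Subtype.ext (funext fun k => (h1 k).trans (hx.2 _))
    exact Basic.isPBlock_eq_of_mem (isPBlock_trSet c h.can.he) h.can.he (tr_mem_trSet.2 h.can.chr_mem)
      (h2.symm ▸ h.can.chr_mem)
  · intro hx
    have h2 : tr c h.can.chr = h.can.chr := h.can.eq_chr (hx ▸ tr_mem_trSet.2 h.can.chr_mem) fun d hd => by
      have h3 : (x : G) * ((d : N) : G) * (x : G)⁻¹ ∈ Q := (mem_normalizer_iff.1 x.2 _).1 hd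
      rw [h1, h1]
      exact (h.can.triv ⟨_, h.le h3⟩ h3).trans (congrArg θ (by simp))
    refine Cov.mem_In.2 ⟨fun y => (mem_normalizer_iff.1 x.2 y).symm, fun y => ?_⟩
    by_cases h3 : y ∈ N
    · by_cases h4 : y ∈ Ce Q
      · have h5 := h1 ⟨⟨y, h3⟩, (Cov.mem_Ce_sub h.le).2 h4⟩
        rw [h2] at h5
        exact h5.symm
      · rw [Cov.zero_C h.le h.zero h.can h4, Cov.zero_C h.le h.zero h.can fun h5 => h4 ((Cov.conj_mem_Ce x.2).1 h5)]
    · rw [h.zero y h3, h.zero _ fun h5 => h3 ((Cov.conj_mem_iff N _ y).1 h5)]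

omit hN in
/-- a root from a canonical character -/
theorem root_of_can (hQ : Q ≤ N) {φ : N → ℂ} (h : Can p M b (Q.subgroupOf N) φ) :
    Root p M N b Q (extendByZero N φ) :=
  ⟨hQ, fun _ hg => extendByZero_of_notMem _ _ hg, by rw [Cov.ext_coe]; exact h⟩

/-- **A root normalised by the defect group.** -/
theorem key0 (hM : IsPModular p M) (hB : IsPBlock M B) (hD : IsDefectGroup p M B D) (hc : IsPBlock M (cov B N))
    (hQ : D ⊓ N = Q) (hab : Ab Q) : ∃ (c : Set (IrrCharacter (normalizer (Q : Set G)))) (θ : G → ℂ)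
      (h : Root p M N (cov B N) Q θ), IsInducedBlock M _ c B ∧ IsDefectGroup p M c (D.subgroupOf _) ∧ D ≤ In Q θ ∧
        CovH (lam N Q _ (mem_norm h.le)) c (rt M N Q θ) := by
  have := Local.isPrime_of_isPModular hM
  have hQN : Q ≤ N := hQ ▸ inf_le_right
  have hQp : IsPGroup p Q := (H592.Defect.isPGroup_of_isDefectGroup hD).to_le (hQ ▸ inf_le_left)
  have hH : normalizer (D : Set G) ≤ normalizer (Q : Set G) := fun x hx => hQ ▸ mem_normalizer_inf hx
  obtain ⟨c, h1⟩ := H648.FirstMain.exists_over_of_block hM hH hB hD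
  obtain ⟨β, h2, h3, h4⟩ := exists_stable hM (lam_inj (mem_norm hQN)) (lam_normal hQN (mem_norm hQN) le_rfl)
    h1.isPBlock_c h1.defect_c
  have h5 : Q.subgroupOf N ≤ Ce (Q.subgroupOf N) := (hab.comap N.subtype_injective).le_centralizer
  obtain ⟨d, h6⟩ := S0919.result p M hM (Q.subgroupOf N) _ hQp.comap_subtype h5 le_rfl
    (centralizer_le_normalizer _) β h2
  have h7 : CovH N.subtype B d := cov_square' hM (lam := lam N Q _ (mem_norm hQN))
    (mu := (Ce (Q.subgroupOf N)).subtype) (ι := (normalizer (Q : Set G)).subtype) (κ := N.subtype) (fun _ => rfl)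
    (lam_inj (mem_norm hQN)) (lam_normal hQN (mem_norm hQN) le_rfl) N.subtype_injective
    (by rw [range_subtype]; exact hN) h6 h3 (fun t h8 h9 ψ hψ => omega_off hM h1.isPBlock_c
      (normal_subgroupOf_normalizer Q) hQp.comap_subtype hψ fun h10 => h9 ((mem_lam hQN _ t).2
        ⟨by rwa [range_subtype] at h8, (Cov.mem_Ce_sub le_normalizer).1 h10⟩)) h1.ind
  obtain rfl := eq_cov hc h6.2.1 h7
  obtain ⟨φ, h8, h9⟩ := can_of_ind hM (hQ ▸ defect_cov hM hB hD hc) h5 h6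
  have h10 := root_of_can hQN h8
  have h11 : rt M N Q (extendByZero N φ) = β := by
    rw [← h9, rt, Cov.ext_coe]
  refine ⟨c, _, h10, h1.ind, h1.defect_c, fun x hx => ?_, h11 ▸ h3⟩
  exact (mem_In_iff_stab h10 ⟨x, hH (le_normalizer hx)⟩).2 (h11 ▸ h4 _ hx)

omit hN in
/-- two roots are conjugate -/
theorem root_conj (h : Root p M N b Q θ) (h' : Root p M N b Q θ') :
    ∃ x ∈ N, x ∈ normalizer (Q : Set G) ∧ ∀ n ∈ N, θ (x * n * x⁻¹) = θ' n := by
  obtain ⟨x, h1, h2⟩ := h.can.conj h'.can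
  exact ⟨x, x.2, (mem_normalizer_subgroupOf h.le x).1 (mem_normalizer_iff.2 fun y => (h1 y).symm),
    fun n hn => h2 ⟨n, hn⟩⟩

/-- **The block of the inertia group.** -/
theorem key1 (hM : IsPModular p M) (hB : IsPBlock M B) (h : Root p M N (cov B N) Q θ) :
    ∃ c : Set (IrrCharacter (In Q θ)), IsInducedBlock M _ c B ∧ CovH (lam N Q _ (mem_In_ce h)) c (rt M N Q θ) ∧
      ∀ E, IsDefectGroup p M c E → IsDefectGroup p M B (E.map (In Q θ).subtype) := by
  have := Local.isPrime_of_isPModular hM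
  letI := Fintype.ofFinite G
  letI := Fintype.ofFinite N
  obtain ⟨D, hD, hQ⟩ := S4438.result p M hM N _ h.can.hb Q h.le h.can.hD B hB (covH_iff.1 (covH_cov hB))
  obtain ⟨c, θ', h', h1, h2, -, h3⟩ := key0 hM hB hD h.can.hb hQ fun x hx y hy =>
    Cov.mem_Ce.1 (Cov.ab_D h.le h.can hy) x hx
  obtain ⟨x, -, x2, x3⟩ := root_conj h h'
  obtain ⟨e, he⟩ := exists_cj (lam_inj (mem_norm h.le)) (lam_normal h.le (mem_norm h.le) le_rfl) ⟨x, x2⟩
  have h4 : tr e h.can.chr = h'.can.chr := Subtype.ext (funext fun k => by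
    have h5 : (((e k : Ce (Q.subgroupOf N)) : N) : G) = x * ((k : N) : G) * x⁻¹ := congrArg Subtype.val (he k)
    exact (congrArg θ h5).trans (x3 _ k.1.2))
  have h5 : rt M N Q θ' = trSet e (rt M N Q θ) := Basic.isPBlock_eq_of_mem h'.can.he (isPBlock_trSet e h.can.he)
    h'.can.chr_mem (h4 ▸ tr_mem_trSet.2 h.can.chr_mem)
  rw [h5] at h3
  have hI : In Q θ ≤ normalizer (Q : Set G) := Cov.In_le_normalizer
  obtain ⟨c', -, h6, h7, -, h8⟩ := FRH_down hM (κ := lam N Q _ (mem_In_ce h)) (τ := inclusion hI)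
    (ι := lam N Q _ (mem_norm h.le)) (fun _ => rfl) (lam_inj _) (inclusion_injective hI)
    (lam_normal h.le _ le_rfl) h.can.he (fun y => by
      rw [range_inclusion', mem_subgroupOf]
      exact mem_In_iff_stab h y) h1.1 (covH_cj he h3)
  refine ⟨c', (IndH.trans_iff (ι₂ := (normalizer (Q : Set G)).subtype) (ι := (In Q θ).subtype) (fun _ => rfl) h7).2
    h1, h6, fun E hE => ?_⟩
  obtain ⟨y, hy⟩ := conj_defect hM h1.1 h2 (h8 E hE)
  have h9 : D ≤ normalizer (Q : Set G) := fun z hz => hQ ▸ mem_normalizer_inf (le_normalizer hz)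
  have h10 : E.map (In Q θ).subtype = D.map (MulAut.conj (y : G)).toMonoidHom := by
    rw [show (In Q θ).subtype = (normalizer (Q : Set G)).subtype.comp (inclusion hI) from rfl, ← map_map, ← hy,
      map_map, ← map_subgroupOf_eq_of_le h9, map_map, subgroupOf_map_subtype, inf_of_le_left h9]
    rfl
  rw [h10]
  exact Basic.isDefectGroup_conj hD _

/-- **Frattini** -/
theorem frat (h : Root p M N b Q θ) (hst : IsStab b ⊤) : N ⊔ In Q θ = ⊤ := by
  refine top_le_iff.1 fun g _ => ?_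
  obtain ⟨n, hn⟩ := h.can.frat (conj_mem_stab hst g)
  have h1 : (n : G) * g ∈ In Q θ := by
    rw [mem_In_iff h.le h.zero, map_mul]
    exact hn
  rw [← inv_mul_cancel_left (n : G) g]
  exact mul_mem_sup (inv_mem n.2) h1

end root

end Cfsg.Agent.BH.Reg

namespace Cfsg.Agent.BH

/-- **[RT]** -/
theorem boxRT {p : ℕ} [Fact p.Prime] {M : Ideal AlgInt} : BoxRT p M := by
  intro hM G _ _ N _ B D hB hD hc hst hab
  obtain ⟨-, θ, h, -, -, h1, -⟩ := Reg.key0 hM hB hD hc rfl hab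
  exact ⟨⟨θ, h, h1⟩, fun _ h' => Reg.frat h' hst⟩

end Cfsg.Agent.BH
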