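import Cfsg.Agent.BH.Reg.A

/-!
# BH, box REG: regularity (helper24)

* `da_p` : a `p`-automorphism which centralizes the defect group and fixes the root fixes the block pointwise;
* `k0_normal`, `reg1`, `reg2`, `reg3`, `boxREG`.
-/

set_option autoImplicit false
set_option linter.style.haveILetI false
set_option linter.unusedSectionVars false
set_option maxHeartbeats 400000

namespace Cfsg.Agent.BH.Reg

open Cfsg Subgroup Cfsg.Agent Cfsg.Agent.Blocks Cfsg.Agent.Characters.Core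
open Cfsg.Agent.TID.Red Cfsg.Agent.KM.BK Cfsg.Agent.TO Cfsg.Agent.H592.Transport
open Cfsg.Agent.H591.Reynolds (IsStab)

variable {p : ℕ} [Fact p.Prime] {M : Ideal AlgInt}

/-- **`p`-automorphisms** which centralize the defect group and fix the root fix the block pointwise -/
theorem da_p {G : Type} [Group G] [Finite G] {b : Set (IrrCharacter G)} {D : Subgroup G} {θ : G → ℂ}
    (h : Can p M b D θ) {α : MulAut G} (h1 : ∀ d ∈ D, α d = d) (h2 : ∀ g, θ (α g) = θ g) (ho : PElt p α)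
    {χ : IrrCharacter G} (hχ : χ ∈ b) : (χ : G → ℂ) ∘ α = χ := by
  obtain ⟨H, _, _, N, _, e, a, ha, hx, hi, hc⟩ := Cov.exists_frame α
  obtain ⟨k, ho⟩ := ho
  let i : G →* H := N.subtype.comp e.toMonoidHom
  have hinj : Function.Injective i := N.subtype_injective.comp e.injective
  have hN : ∀ x ∈ N, ∃ g, i g = x := fun x hx => ⟨e.symm ⟨x, hx⟩, congrArg Subtype.val (e.apply_symm_apply _)⟩
  have hiN : ∀ g, i g ∈ N := fun g => (e g).2
  obtain ⟨θ', hθ'⟩ : ∃ θ', θ' = extendByZero N fun n => θ (e.symm n) := ⟨_, rfl⟩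
  have e0 : ∀ x, x ∉ N → θ' x = 0 := fun x hx => hθ' ▸ extendByZero_of_notMem _ _ hx
  have e1 : ∀ g, θ' (i g) = θ g := fun g => hθ' ▸
    (extendByZero_of_mem N _ (hiN g)).trans (congrArg θ (e.symm_apply_apply g))
  have hD : D.map i ≤ N := by
    rintro _ ⟨d, -, rfl⟩
    exact hiN d
  have h' : Can p M (H649.blkMap e b) ((D.map i).subgroupOf N) fun n => θ' n := by
    have e2 : (D.map i).subgroupOf N = D.map e.toMonoidHom := by
      rw [← map_map]
      exact comap_map_eq_self_of_injective N.subtype_injective _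
    rw [e2, hθ', Cov.ext_coe]
    exact Cov.can_map e h
  have haC : a ∈ Ce (D.map i) := Cov.mem_Ce.2 (by
    rintro _ ⟨d, hd, rfl⟩
    have h4 : a * i d * a⁻¹ = i (α d) := ha d
    rw [h1 d hd, mul_inv_eq_iff_eq_mul] at h4
    exact h4.symm)
  have haI : a ∈ In (D.map i) θ' := by
    refine Cov.mem_In.2 ⟨fun x => (mem_normalizer_iff.1 (centralizer_le_normalizer _ haC) x).symm, fun x => ?_⟩
    by_cases h4 : x ∈ N
    · obtain ⟨g, rfl⟩ := hN x h4
      rw [show a * i g * a⁻¹ = i (α g) from ha g, e1, e1, h2]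
    · rw [e0 x h4, e0 _ fun h5 => h4 ((Cov.conj_mem_iff N a x).1 h5)]
  have hNC : N ⊔ Ce (D.map i) = ⊤ := top_le_iff.1 fun x _ => by
    obtain ⟨g, k, rfl⟩ := hx x
    exact mul_mem_sup (e g).2 (pow_mem haC k)
  have hC : Ce (D.map i) ≤ In (D.map i) θ' := fun x h4 => by
    obtain ⟨g, k, rfl⟩ := hx x
    exact mul_mem (ce_le_In ⟨hD, e0, h'⟩ ⟨(e g).2, (mul_mem_cancel_right (pow_mem haC k)).1 h4⟩) (pow_mem haI k)
  obtain ⟨χ', h5⟩ := Cov.ext_p hc (hi.trans ho) hD e0 h' hNC hC (H649.irrMap_mem_blkMap.2 hχ)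
  funext g
  rw [Function.comp_apply, ← H649.irrMap_apply' e, ← H649.irrMap_apply' e, ← h5, ← h5, ← ha, Basic.irr_conj χ'.2]

theorem mem_of_coprime {X : Type*} [Group X] {S : Subgroup X} {c : X} {m n : ℕ} (h : m.Coprime n) (h1 : c ^ m ∈ S)
    (h2 : c ^ n ∈ S) : c ∈ S := by
  have h3 : c = (c ^ m) ^ Nat.gcdA m n * (c ^ n) ^ Nat.gcdB m n := by
    rw [← zpow_natCast, ← zpow_natCast, ← zpow_mul, ← zpow_mul, ← zpow_add, ← Nat.gcd_eq_gcd_ab, h.gcd_eq_one,
      Nat.cast_one, zpow_one]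
  rw [h3]
  exact mul_mem (zpow_mem h1 _) (zpow_mem h2 _)

variable {G : Type} [Group G] [Finite G] {N : Subgroup G} [hN : N.Normal] {b : Set (IrrCharacter N)}
  {B : Set (IrrCharacter G)} {D Q : Subgroup G} {θ : G → ℂ}

theorem k0_normal (h : N ⊔ In Q θ = ⊤) : (N ⊔ (In Q θ ⊓ Ce Q)).Normal := by
  rw [← normalizer_eq_top_iff, eq_top_iff, ← h]
  refine sup_le (le_sup_left.trans le_normalizer) fun x hx => normalizer_inf_normalizer_le_normalizer_sup _ _
    ⟨mem_normalizer_of_normal N x, mem_normalizer_iff.2 fun y => ?_⟩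
  rw [mem_inf, mem_inf, Cov.conj_mem_Ce (Cov.In_le_normalizer hx), mul_mem_cancel_right (inv_mem hx),
    mul_mem_cancel_left hx]

/-- **REG (1)** -/
theorem reg1 (hM : IsPModular p M) (hB : IsPBlock M B) (hst : IsStab b ⊤) (hcov : CovH N.subtype B b)
    (h : Root p M N b Q θ) {χ : IrrCharacter G} (hχ : χ ∈ B) {g : G} (hg : g ∉ N ⊔ (In Q θ ⊓ Ce Q)) :
    MemLocalIdeal M (centralChar (χ : G → ℂ) g) := by
  have := Local.isPrime_of_isPModular hM
  have hn := k0_normal (frat h hst)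
  obtain rfl := cov_eq hM hB h.can.hb hst hcov
  obtain ⟨c, h1, -, -⟩ := key1 hM hB h
  obtain ⟨ψ, hψ⟩ := Basic.isPBlock_nonempty h1.1
  have h2 := icc_mem (M := M) (In Q θ).subtype (isIrr_isClassFunction ψ.2) g fun y hy => by
    refine omega_off hM h1.1 (U := Q.subgroupOf (In Q θ)) ⟨fun a ha t => (t.2.1 a).2 ha⟩
      (Cov.pg_D h.le h.can).comap_subtype hψ fun h3 => hg ?_
    obtain ⟨t, ht⟩ := isConj_iff.1 hy
    refine (Cov.conj_mem_iff _ t g).1 ?_
    rw [ht]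
    exact mem_sup_right ⟨y.2, (Cov.mem_Ce_sub (le_In h)).1 h3⟩
  have h3 := Local.memLocalIdeal_sub h2 (h1.2.2 ψ hψ χ hχ g)
  rwa [show inducedCentralChar (In Q θ) (ψ : In Q θ → ℂ) g = icc (In Q θ).subtype ψ g from rfl, sub_sub_cancel] at h3

/-- a block above a block of an intermediate subgroup -/
theorem covH_of_le {K : Subgroup G} (hNK : N ≤ K) {B' : Set (IrrCharacter G)} (h : CovH K.subtype B' (cov B K)) :
    CovH N.subtype B' (cov B N) := by
  obtain ⟨χ', h1, η, ⟨χ, h2, h3⟩, h4⟩ := h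
  obtain ⟨ξ, h5⟩ := exists_ov (inclusion hNK) η.2
  exact ⟨χ', h1, ξ, ⟨χ, h2, Ov.trans (fun _ => rfl) (isIrr_isCharacter χ.2) η.2 ξ.2 h3 h5⟩,
    Ov.trans (fun _ => rfl) (isIrr_isCharacter χ'.2) η.2 ξ.2 h4 h5⟩

/-- `B` is the only block above the block of `K` -/
theorem uniq_cov (hM : IsPModular p M) (hB : IsPBlock M B) (hst : IsStab (cov B N) ⊤)
    (h : Root p M N (cov B N) Q θ) {K : Subgroup G} [K.Normal] (hK : N ⊔ (In Q θ ⊓ Ce Q) ≤ K)
    (hc : IsPBlock M (cov B K)) {B' : Set (IrrCharacter G)} (hB' : IsPBlock M B')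
    (hcov : CovH K.subtype B' (cov B K)) : B' = B := by
  have := Local.isPrime_of_isPModular hM
  obtain ⟨χ, hχ⟩ := Basic.isPBlock_nonempty hB
  obtain ⟨χ', hχ'⟩ := Basic.isPBlock_nonempty hB'
  obtain ⟨ξ, hξ⟩ := Basic.isPBlock_nonempty hc
  have hn : K.subtype.range.Normal := by
    rw [range_subtype]
    infer_instance
  refine Basic.isPBlock_eq_of_sameBlock hB' hB hχ' hχ fun g => ?_
  by_cases hg : g ∈ K
  · exact Local.memLocalIdeal_sub_trans ((passmanH hM K.subtype_injective hn hB' hc).1 hcov χ' hχ' ξ hξ ⟨g, hg⟩)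
      (Local.memLocalIdeal_sub_comm ((passmanH hM K.subtype_injective hn hB hc).1 (covH_cov hB) χ hχ ξ hξ ⟨g, hg⟩))
  · exact Local.memLocalIdeal_sub (reg1 hM hB' hst (covH_of_le (le_sup_left.trans hK) hcov) h hχ' fun h1 => hg (hK h1))
      (reg1 hM hB hst (covH_cov hB) h hχ fun h1 => hg (hK h1))

/-- **REG (2)** -/
theorem reg2 (hM : IsPModular p M) (hB : IsPBlock M B) (hD : IsDefectGroup p M B D) (hst : IsStab (cov B N) ⊤)
    (h : Root p M N (cov B N) Q θ) {K : Subgroup G} [K.Normal] (hK : N ⊔ (In Q θ ⊓ Ce Q) ≤ K)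
    (hc : IsPBlock M (cov B K)) (hs : IsStab (cov B K) ⊤) : ¬ p ∣ (K ⊔ D).index := by
  have := Local.isPrime_of_isPModular hM
  letI := Fintype.ofFinite G
  letI := Fintype.ofFinite K
  rw [sup_comm]
  exact (S0970.result p M hM K _ hc (fun g => (hs g).1 (mem_top g)) B hB (covH_iff.1 (covH_cov hB))
    (fun B' hB' hcov => by rw [uniq_cov hM hB hst h hK hc hB' (covH_iff.2 hcov)]) D hD).1

/-- **REG (3)** -/
theorem reg3 (h : Root p M N b Q θ) {y : G} (hy : y ∈ N ⊔ (In Q θ ⊓ Ce Q)) {k : ℕ} (hk : y ^ p ^ k ∈ N)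
    {ψ : IrrCharacter N} (hψ : ψ ∈ b) : Fixes N y (ψ : N → ℂ) := by
  have hp : p.Prime := Fact.out
  let S : Subgroup G := (FixF (ψ : N → ℂ)).comap MulAut.conjNormal
  have h1 : N ≤ S := fun n hn => ⟨fun _ => Iff.rfl, fun x => Basic.irr_conj ψ.2 x ⟨n, hn⟩⟩
  have h2 : y ∈ S := by
    rw [← SetLike.mem_coe, normal_mul] at hy
    obtain ⟨n, hn, c, hc, rfl⟩ := hy
    refine mul_mem (h1 hn) ?_
    have h3 : c ^ p ^ k ∈ N := by
      rw [← QuotientGroup.eq_one_iff, QuotientGroup.mk_pow] at hk ⊢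
      rwa [QuotientGroup.mk_mul, (QuotientGroup.eq_one_iff n).2 hn, one_mul] at hk
    obtain ⟨j, m, h4, h5⟩ := Nat.exists_eq_pow_mul_and_not_dvd (orderOf_pos c).ne' p hp.ne_one
    refine mem_of_coprime ((Nat.Coprime.pow_left k ((Nat.Prime.coprime_iff_not_dvd hp).2 h4)).symm) ?_ (h1 h3)
    have h6 := pow_mem hc m
    have h7 : (MulAut.conjNormal (c ^ m) : MulAut N) ^ p ^ j = 1 := by
      rw [← map_pow, ← pow_mul, mul_comm, ← h5, pow_orderOf_eq_one, map_one]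
    obtain ⟨i, -, h8⟩ := (Nat.dvd_prime_pow hp).1 (orderOf_dvd_of_pow_eq_one h7)
    exact ⟨fun _ => Iff.rfl, congrFun (da_p h.can (fun d hd => Subtype.ext
      (mul_inv_eq_iff_eq_mul.2 (Cov.mem_Ce.1 h6.2 d hd).symm)) (fun g => h6.1.2 g) ⟨i, h8⟩ hψ)⟩
  intro n n' e
  rw [← h2.2 n]
  exact congrArg _ (Subtype.ext e)

end Cfsg.Agent.BH.Reg

namespace Cfsg.Agent.BH

/-- **[REG]** -/
theorem boxREG {p : ℕ} [Fact p.Prime] {M : Ideal AlgInt} : BoxREG p M := by
  intro hM G _ _ N _ B D hB hD _ hst Q θ h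
  have := Blocks.Local.isPrime_of_isPModular hM
  exact ⟨fun _ hχ _ hg => Reg.reg1 hM hB hst (KM.BK.covH_cov hB) h hχ hg,
    fun _ _ hK hc hs => Reg.reg2 hM hB hD hst h hK hc hs, fun _ hy ⟨_, hk⟩ _ hψ => Reg.reg3 h hy hk hψ⟩

end Cfsg.Agent.BH
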